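import Cfsg.Agent.HZ.Spor.Eng
import Cfsg.Agent.OddHalf.Small.U43
import Cfsg.Agent.OddHalf.Small.G23
import Cfsg.Agent.OddHalf.Small.L33
import Cfsg.Agent.OddHalf.Small.Transport
import Cfsg.Agent.MK.C3L.OFam
import Cfsg.Agent.MK.S7.O7

/-!
# HZ (S4909): the groups of odd characteristic with exceptional covers (helper46)
-/

set_option autoImplicit false
set_option maxRecDepth 100000

namespace Cfsg.Agent.HZ.Exc

open Cfsg Subgroup Cfsg.Agent.TAB.Eng

theorem u43 (F : Type) [Field F] [Fintype F] (hF : Fintype.card F = 9) : Row fun S _ => Nonempty (S ≃* PSU 4 F 3) :=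
  Two.row_of_two fun _ _ _ ⟨e⟩ =>
    OddHalf.Small.Transport.isCharacteristicTwoType e.symm (OddHalf.Small.U43.charTwo_U43 F hF)

theorem g23 (F : Type) [Field F] [Fintype F] (hF : Fintype.card F = 3) :
    Row fun S _ => Nonempty (S ≃* Lie.chevG2.group F) :=
  Two.row_of_two fun _ _ _ ⟨e⟩ => OddHalf.Small.Transport.isCharacteristicTwoType e.symm (OddHalf.Small.G23.g23 F hF)

theorem l33 (F : Type) [Field F] [Fintype F] (hF : Fintype.card F = 3) :
    Row fun S _ => Nonempty (S ≃* Matrix.ProjectiveSpecialLinearGroup (Fin 3) F) :=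
  Two.row_of_two fun _ _ _ ⟨e⟩ => OddHalf.Small.L33.charTwo hF e

section

open Cfsg.Agent.MK.C3L.O Cfsg.Agent.H64.O73Perm Cfsg.Agent.Fischer.Derived Cfsg.Agent.Fischer.Y322
  Cfsg.Agent.Fischer.Y322Iso

/-- no element of order eight of `Ω₇(3)` commutes with an element of odd order -/
theorem no24 {u y : H8} (hc : Commute u y) {k : ℕ} (hu : u ^ 2 ^ k = 1) (h4 : u ^ 4 ≠ 1) (ho : Odd (orderOf y)) :
    y = 1 := by
  obtain ⟨T, hm, hT⟩ := exists_tdT
  have hfin : Finite Trip := Nat.finite_of_card_ne_zero (by rw [card_trip]; decide)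
  have hv : ∀ g, (fx g, fb g) = val (T.ty g) := fun g => by
    have h := ((hT g _ (T.lt g)).1 rfl).2 _ ((by decide +kernel : ∀ t < 81, (1, t) ∈ dat.pw t) _ (T.lt g))
    rwa [pow_one] at h
  have h1 : fx 1 = 1134 := by rw [fx, MulAction.fixedBy_one_eq_univ]; simp
  have hz : T.ty zz = 4 := by
    have h2 : 1134 ≤ fb zz := by
      rw [fb, ← pow_three, zz_cube, h1]
      exact Nat.le_add_left _ _
    refine (by decide +kernel : ∀ t < 81, dat.ord t = 3 → 1134 ≤ (val t).2 → t = 4) _ (T.lt zz)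
      (by rw [← T.ord, zz_ord]) (by rw [← hv]; exact h2)
  have hz2 : T.ty (zz ^ 2) = 4 := by rw [T.pow, hz]; rfl
  obtain ⟨v, rfl⟩ := ext_pi.surj u
  obtain ⟨x, rfl⟩ := ext_pi.surj y
  have h2 : (v ^ 3) ^ 2 ^ k = 1 := by
    rw [← pow_mul, mul_comm, pow_mul]
    exact ext_pi.cube (ext_pi.mem_iff.2 (by rw [map_pow, hu]))
  have h3 : Commute x (v ^ 3) := ext_pi.good_of_pow (n := 2 ^ k)
    (fun h => absurd (Nat.prime_three.dvd_of_dvd_pow h) (by decide)) h2 x (by
      rw [map_pow]; exact (hc.symm.pow_right 3).eq)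
  have h5 : Odd (orderOf x) := by
    refine Odd.of_dvd_nat (n := orderOf (pi x) * 3) (ho.mul ⟨1, rfl⟩) (orderOf_dvd_of_pow_eq_one ?_)
    rw [pow_mul]
    exact ext_pi.cube (ext_pi.mem_iff.2 (by rw [map_pow, pow_orderOf_eq_one]))
  have h6 : (v ^ 3) ^ 4 ≠ 1 := fun h => h4 (by
    have h7 : pi v ^ 12 = 1 := by rw [← map_pow, show 12 = 3 * 4 from rfl, pow_mul, h, map_one]
    have h8 := pow_gcd_eq_one.2 ⟨h7, show pi v ^ 2 ^ (k + 2) = 1 by rw [pow_add, pow_mul, hu, one_pow]⟩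
    rwa [show (12 : ℕ) = 3 * 4 from rfl, pow_add, show (2 : ℕ) ^ 2 = 4 from rfl, Nat.gcd_mul_right,
      (Nat.Coprime.pow_right k (by decide : Nat.Coprime 3 2)).gcd_eq_one, one_mul] at h8)
  by_contra h7
  have h8 := Spor.ty_mem T (Y := [4]) (by decide +kernel) h3.symm h2 h6 h5 fun h => h7 (by rw [h, map_one])
  rw [List.mem_singleton] at h8
  have h9 : Nat.card {g : Trip // T.ty g = 4} = 2 := hm.2 4 (by decide)
  obtain ⟨w, -, hw⟩ := (Nat.card_eq_two_iff' (⟨zz, hz⟩ : {g : Trip // T.ty g = 4})).1 h9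
  have h10 : zz ^ 2 ≠ zz := fun h => by
    have h11 := zz_ord
    rw [_root_.sq, mul_eq_left] at h
    rw [h, orderOf_one] at h11
    omega
  by_cases h11 : x = zz
  · exact h7 (by rw [h11, pi_zz])
  · have h12 := (hw ⟨x, h8⟩ fun h => h11 (congrArg Subtype.val h)).trans
      (hw ⟨zz ^ 2, hz2⟩ fun h => h10 (congrArg Subtype.val h)).symm
    exact h7 (by rw [show x = zz ^ 2 from congrArg Subtype.val h12, map_pow, pi_zz, one_pow])

theorem o73 (F : Type) [Field F] [Fintype F] (hF : Fintype.card F = 3) :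
    Row fun S _ => Nonempty (S ≃* POmega F (quadFormOdd 3 F)) := by
  intro M hM X _ _ _ ⟨e⟩ _
  obtain ⟨f⟩ := MK.S7.O7.iso_H8 F hF
  let π : X →* H8 := (e.trans f).toMonoidHom.comp (QuotientGroup.mk' (center X))
  refine Spor.hf_of (π := π) hM (fun x hx => by simpa [π] using hx) fun _ _ y u ho _ h1 hc ⟨k, hk⟩ h4 => ?_
  exact absurd (no24 (hc.map π) (k := k) (by rw [← map_pow, ← hk, pow_orderOf_eq_one, map_one]) h4
    (ho.of_dvd_nat (orderOf_map_dvd π y))) h1

end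

end Cfsg.Agent.HZ.Exc
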